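import Groth.Agent.H7.Node.Basic
import Mathlib

/-! Automorphisms of the formal double point: relations and fixed ideals. -/

set_option backward.isDefEq.respectTransparency false
set_option linter.unusedSectionVars false

namespace Groth.Agent.H7.Node

open ArLef

universe u

variable {B : Type u} [CommRing B] [IsDomain B] [IsDiscreteValuationRing B] {π : B}

local notation "N" => NodeAlg B π
local notation "T" => NodeAlg.t π
local notation "E" => NodeAlg.e π
local notation "am" => algebraMap B (NodeAlg B π)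

section

variable (hπ : Irreducible π)
include hπ

lemma br : Branches (NodeAlg.t π) (NodeAlg.e π) := branches hπ.maximalIdeal_eq hπ.ne_zero

lemma reg_pi_pow (n : ℕ) : IsLeftRegular (am (π ^ n)) := by
  rw [map_pow, ← te_eq]; exact ((br hπ).regT.mul (br hπ).regE).pow n

/-- `σ t · σ e = t e w` forces stabilising or switching -/
lemma dichotomy (σ : N ≃+* N) (w : N) (h : σ (am π) = am π * w) :
    IsUnit w ∧
    ((∃ α β : Nˣ, σ T = (α : N) * T ∧ σ E = (β : N) * E) ∨
      (∃ α β : Nˣ, σ T = (α : N) * E ∧ σ E = (β : N) * T)) := by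
  have H := br hπ
  rw [← te_eq, map_mul] at h
  have pT : Prime (σ T) := (MulEquiv.prime_iff σ.toMulEquiv).2 H.primeT
  have pE : Prime (σ E) := (MulEquiv.prime_iff σ.toMulEquiv).2 H.primeE
  have rT : IsLeftRegular (σ T) := fun x y hxy => σ.symm.injective (H.regT (by
    have := congrArg σ.symm (hxy : σ T * x = σ T * y)
    simpa using this))
  have rE : IsLeftRegular (σ E) := fun x y hxy => σ.symm.injective (H.regE (by
    have := congrArg σ.symm (hxy : σ E * x = σ E * y)
    simpa using this))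
  have assoc : ∀ {p q : N}, Prime p → Prime q → IsLeftRegular p → IsLeftRegular q → p ∣ q → ∃ u : Nˣ, q = (u : N) * p := by
    rintro p q hp hq rp rq ⟨x, rfl⟩
    rcases hq.dvd_or_dvd dvd_rfl with ⟨y, hy⟩ | ⟨y, hy⟩
    · have hxy : x * y = 1 := rp (show p * (x * y) = p * 1 by rw [mul_one, ← mul_assoc, ← hy])
      exact ⟨(IsUnit.of_mul_eq_one _ hxy).unit, by rw [IsUnit.unit_spec, mul_comm]⟩
    · have hpy : p * y = 1 := rq (show (p * x) * (p * y) = (p * x) * 1 by
        rw [mul_one]; linear_combination (-p) * hy)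
      exact absurd (IsUnit.of_mul_eq_one _ hpy) hp.not_isUnit
  rcases H.primeT.dvd_or_dvd (⟨E * w, by rw [h]; ring⟩ : T ∣ σ T * σ E) with h1 | h1
  · obtain ⟨α, hα⟩ := assoc H.primeT pT H.regT rT h1
    have h2 : (α : N) * σ E = E * w := H.regT (show T * ((α : N) * σ E) = T * (E * w) by
      rw [← mul_assoc T E w, ← h, hα]; ring)
    have h3 : E ∣ σ E := (H.primeE.dvd_or_dvd (⟨w, h2⟩ : E ∣ (α : N) * σ E)).resolve_left
      (fun hd => H.primeE.not_isUnit (isUnit_of_dvd_unit hd α.isUnit))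
    obtain ⟨β, hβ⟩ := assoc H.primeE pE H.regE rE h3
    refine ⟨?_, Or.inl ⟨α, β, hα, hβ⟩⟩
    have : w = (α * β : Nˣ) := H.regE (show E * w = E * ((α * β : Nˣ) : N) by
      rw [← h2, hβ]; push_cast; ring)
    exact this ▸ Units.isUnit _
  · obtain ⟨β, hβ⟩ := assoc H.primeT pE H.regT rE h1
    have h2 : (β : N) * σ T = E * w := H.regT (show T * ((β : N) * σ T) = T * (E * w) by
      rw [← mul_assoc T E w, ← h, hβ]; ring)
    have h3 : E ∣ σ T := (H.primeE.dvd_or_dvd (⟨w, h2⟩ : E ∣ (β : N) * σ T)).resolve_left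
      (fun hd => H.primeE.not_isUnit (isUnit_of_dvd_unit hd β.isUnit))
    obtain ⟨α, hα⟩ := assoc H.primeE pT H.regE rT h3
    refine ⟨?_, Or.inr ⟨α, β, hα, hβ⟩⟩
    have : w = (β * α : Nˣ) := H.regE (show E * w = E * ((β * α : Nˣ) : N) by
      rw [← h2, hα]; push_cast; ring)
    exact this ▸ Units.isUnit _

/-- `αβ - 1` for a stabilising automorphism over `π ↦ π + γ π^(j+1)` -/
lemma rel (σ : N ≃+* N) (α β : N) (k : ℕ) (γ : B)
    (hσπ : σ (am π) = am (π + γ * π ^ (k + 1))) (ht : σ T = α * T) (he : σ E = β * E) :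
    (α - 1) + α * (β - 1) = am γ * (T ^ k * E ^ k) := by
  rw [← te_eq, map_mul, ht, he, map_add, map_mul, map_pow, ← te_eq] at hσπ
  refine (br hπ).regT ((br hπ).regE ?_)
  show E * (T * ((α - 1) + α * (β - 1))) = E * (T * (am γ * (T ^ k * E ^ k)))
  linear_combination hσπ

lemma rel_switch (σ : N ≃+* N) (α β : N) (k : ℕ) (γ : B)
    (hσπ : σ (am π) = am (π + γ * π ^ (k + 1))) (ht : σ T = α * E) (he : σ E = β * T) :
    α * β - 1 = am γ * (T ^ k * E ^ k) := by
  rw [← te_eq, map_mul, ht, he, map_add, map_mul, map_pow, ← te_eq] at hσπ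
  refine (br hπ).regT ((br hπ).regE ?_)
  show E * (T * (α * β - 1)) = E * (T * (am γ * (T ^ k * E ^ k)))
  linear_combination hσπ

lemma fix_eq (σ : N ≃+* N) (j : ℕ) (γ : B) (hγ : IsUnit γ)
    (hσB : ∀ c : B, σ (am c) - am c ∈ Ideal.span ({am (π ^ j)} : Set N))
    (hσπ : σ (am π) = am (π + γ * π ^ j)) :
    fixIdeal σ = Ideal.span {T ^ j * E ^ j, σ T - T, σ E - E} := by
  have e : am (π ^ j) = T ^ j * E ^ j := by rw [map_pow, ← te_eq, mul_pow]
  refine le_antisymm (fixIdeal_le hπ.maximalIdeal_eq σ _ (fun c => ?_) (Ideal.subset_span (by simp)) (Ideal.subset_span (by simp))) ?_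
  · obtain ⟨x, hx⟩ := Ideal.mem_span_singleton'.1 (hσB c)
    rw [← hx, e]
    exact Ideal.mul_mem_left _ _ (Ideal.subset_span (by simp))
  · rw [Ideal.span_le]
    rintro z (rfl | rfl | rfl)
    · rw [SetLike.mem_coe, ← Ideal.unit_mul_mem_iff_mem _ (hγ.map (algebraMap B N)), ← e, ← map_mul]
      have := sub_mem_fixIdeal (σ : N → N) (am π)
      rwa [hσπ, map_add, add_sub_cancel_left] at this
    · exact sub_mem_fixIdeal (σ : N → N) T
    · exact sub_mem_fixIdeal (σ : N → N) E

lemma fix_eq_alg (σ : N ≃ₐ[B] N) : fixIdeal σ = Ideal.span {σ T - T, σ E - E} := by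
  refine le_antisymm ?_ ?_
  · exact fixIdeal_le hπ.maximalIdeal_eq σ.toRingEquiv _
      (fun c => by rw [AlgEquiv.toRingEquiv_eq_coe, AlgEquiv.coe_ringEquiv, AlgEquiv.commutes, sub_self]; exact zero_mem _)
      (Ideal.subset_span (by simp)) (Ideal.subset_span (by simp))
  · rw [Ideal.span_le]
    rintro z (rfl | rfl)
    · exact sub_mem_fixIdeal (σ : N → N) T
    · exact sub_mem_fixIdeal (σ : N → N) E

omit hπ in
lemma ideal_colon_eq {I J : Ideal N} {D : N} (h : ∀ r, r ∈ J ↔ D * r ∈ I) : I.colon ({D} : Set N) = J := by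
  ext r
  rw [Submodule.mem_colon_singleton, h, smul_eq_mul, mul_comm D r]

omit hπ in
lemma colon_mul {D : N} (hD : IsLeftRegular D) (J : Ideal N) (r : N) :
    r ∈ J ↔ D * r ∈ Ideal.span {D} * J := by
  rw [Ideal.mem_span_singleton_mul]
  exact ⟨fun h => ⟨r, h, rfl⟩, fun ⟨z, hz, he⟩ => hD he ▸ hz⟩

end

end Groth.Agent.H7.Node
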