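import Groth.Agent.H7.Node.Core
import Groth.Prelude.Def_W4c2arithlefschetzNode

/-! The formal double point `B[[x,y]]/(xy - π)`: branches, and the fixed ideal. -/

set_option backward.isDefEq.respectTransparency false
set_option linter.unusedSectionVars false

namespace Groth.Agent.H7.Node

open MvPowerSeries ArLef

universe u

variable {B : Type u} [CommRing B]

/-- restriction to an axis -/
noncomputable def axis (i : Fin 2) : MvPowerSeries (Fin 2) B →+* PowerSeries B where
  toFun f := PowerSeries.mk fun n => coeff (Finsupp.single i n) f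
  map_one' := by
    ext n
    classical
    simp only [PowerSeries.coeff_mk, PowerSeries.coeff_one, MvPowerSeries.coeff_one, Finsupp.single_eq_zero]
  map_mul' f g := by
    ext n
    classical
    simp only [PowerSeries.coeff_mk, PowerSeries.coeff_mul, MvPowerSeries.coeff_mul, Finsupp.antidiagonal_single, Finset.sum_map]
    rfl
  map_zero' := by ext n; simp
  map_add' f g := by ext n; simp

lemma exists_axis_split {i j : Fin 2} (hij : i ≠ j) (f : MvPowerSeries (Fin 2) B) :
    ∃ g, (∀ d, coeff d g = if d j = 0 then coeff d f else 0) ∧ X j ∣ f - g := by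
  classical
  refine ⟨fun d => if d j = 0 then coeff d f else 0, fun d => rfl, X_dvd_iff.2 fun m hm => ?_⟩
  show coeff m f - (if m j = 0 then coeff m f else 0) = 0
  rw [if_pos hm, sub_self]

lemma exists_decomp (f : MvPowerSeries (Fin 2) B) :
    ∃ (c : B) (g h : MvPowerSeries (Fin 2) B), f = C c + X 0 * g + X 1 * h := by
  classical
  obtain ⟨f1, hf1, g, hg⟩ := exists_axis_split (i := 1) (j := 0) (by decide) f
  obtain ⟨f2, hf2, h, hh⟩ := exists_axis_split (i := 0) (j := 1) (by decide) f1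
  refine ⟨coeff 0 f, g, h, ?_⟩
  have : f2 = C (coeff 0 f) := by
    ext d
    rw [hf2, hf1, coeff_C]
    by_cases hd : d = 0
    · subst hd; simp
    · rw [if_neg hd]
      split_ifs with a b
      · exact absurd (Finsupp.ext fun k => by fin_cases k <;> assumption) hd
      · rfl
      · rfl
  rw [← this]
  linear_combination hg + hh

variable [IsLocalRing B]

/-- branch map to `k[[Z]]` -/
noncomputable def phi (i : Fin 2) : MvPowerSeries (Fin 2) B →+* PowerSeries (IsLocalRing.ResidueField B) :=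
  (PowerSeries.map (IsLocalRing.residue B)).comp (axis i)

lemma coeff_phi (i : Fin 2) (f : MvPowerSeries (Fin 2) B) (n : ℕ) :
    PowerSeries.coeff n (phi i f) = IsLocalRing.residue B (coeff (Finsupp.single i n) f) := by
  simp [phi, axis]

lemma phi_C (i : Fin 2) (c : B) : phi i (C c) = PowerSeries.C (IsLocalRing.residue B c) := by
  classical
  ext n
  rw [coeff_phi, coeff_C, PowerSeries.coeff_C]
  by_cases h : n = 0 <;> simp [h]

lemma phi_X_self (i : Fin 2) : phi i (X i : MvPowerSeries (Fin 2) B) = PowerSeries.X := by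
  classical
  ext n
  rw [coeff_phi, coeff_X, PowerSeries.coeff_X]
  by_cases h : n = 1 <;> simp [h, Finsupp.single_eq_single_iff]

lemma phi_X_of_ne {i j : Fin 2} (h : i ≠ j) : phi i (X j : MvPowerSeries (Fin 2) B) = 0 := by
  classical
  ext n
  rw [coeff_phi, coeff_X, if_neg, map_zero, map_zero]
  intro e
  have := DFunLike.congr_fun e j
  simp [Finsupp.single_apply, h] at this

lemma phi_surjective (i : Fin 2) : Function.Surjective (phi (B := B) i) := by
  classical
  intro z
  choose c hc using fun n => IsLocalRing.residue_surjective (PowerSeries.coeff n z)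
  refine ⟨fun d => if d = Finsupp.single i (d i) then c (d i) else 0, ?_⟩
  ext n
  rw [coeff_phi, show (coeff (Finsupp.single i n)) (fun d => if d = Finsupp.single i (d i) then c (d i) else 0)
    = if Finsupp.single i n = Finsupp.single i ((Finsupp.single i n) i) then c ((Finsupp.single i n) i) else 0 from rfl]
  simp [hc]

variable {π : B} (hπ : IsLocalRing.maximalIdeal B = Ideal.span {π})
include hπ

lemma phi_C_pi (i : Fin 2) : phi i (C π) = (0 : PowerSeries (IsLocalRing.ResidueField B)) := by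
  rw [phi_C, (IsLocalRing.residue_eq_zero_iff π).2 (hπ ▸ Ideal.mem_span_singleton_self π), map_zero]

lemma mem_of_phi_eq_zero {i j : Fin 2} (hij : i ≠ j) {f : MvPowerSeries (Fin 2) B} (hf : phi i f = 0) :
    ∃ g h, f = X j * g + C π * h := by
  classical
  obtain ⟨f1, hf1, g, hg⟩ := exists_axis_split hij f
  have key : ∀ d, π ∣ coeff d f1 := by
    intro d
    rw [hf1]
    split
    · next hd =>
      have e : d = Finsupp.single i (d i) := Finsupp.ext fun k => by
        by_cases hk : k = i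
        · subst hk; simp
        · have : k = j := by fin_cases i <;> fin_cases j <;> fin_cases k <;> simp_all
          subst this; simp [hd, Finsupp.single_apply, hij]
      have := congrArg (PowerSeries.coeff (d i)) hf
      rw [coeff_phi, map_zero, IsLocalRing.residue_eq_zero_iff, hπ, Ideal.mem_span_singleton, ← e] at this
      exact this
    · exact dvd_zero _
  choose h hh using key
  let H : MvPowerSeries (Fin 2) B := fun d => h d
  refine ⟨g, H, ?_⟩
  have : f1 = C π * H := by
    ext d; rw [coeff_C_mul]; exact hh d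
  rw [← this, ← hg]; ring

/-- the branch `i` of the double point -/
noncomputable def psi (i : Fin 2) : NodeAlg B π →+* PowerSeries (IsLocalRing.ResidueField B) :=
  Ideal.Quotient.lift _ (phi i) (by
    intro a ha
    obtain ⟨c, rfl⟩ := Ideal.mem_span_singleton'.1 ha
    rw [map_mul, map_sub, map_mul, phi_C_pi hπ, sub_zero]
    match i with
    | 0 => rw [phi_X_of_ne (i := (0 : Fin 2)) (j := 1) (by decide), mul_zero, mul_zero]
    | 1 => rw [phi_X_of_ne (i := (1 : Fin 2)) (j := 0) (by decide), zero_mul, mul_zero])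

lemma psi1_t : psi hπ 1 (NodeAlg.t π) = 0 := phi_X_of_ne (by decide)
lemma psi1_e : psi hπ 1 (NodeAlg.e π) = PowerSeries.X := phi_X_self 1
lemma psi0_t : psi hπ 0 (NodeAlg.t π) = PowerSeries.X := phi_X_self 0
lemma psi0_e : psi hπ 0 (NodeAlg.e π) = 0 := phi_X_of_ne (by decide)

omit hπ in
lemma te_eq : NodeAlg.t π * NodeAlg.e π = algebraMap B (NodeAlg B π) π := by
  rw [← map_mul]
  exact Ideal.Quotient.eq.2 (Ideal.mem_span_singleton_self _)

lemma t_dvd_iff (z : NodeAlg B π) : NodeAlg.t π ∣ z ↔ psi hπ 1 z = 0 := by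
  constructor
  · rintro ⟨w, rfl⟩; rw [map_mul, psi1_t, zero_mul]
  · intro h
    obtain ⟨f, rfl⟩ := Ideal.Quotient.mk_surjective z
    obtain ⟨g, k, rfl⟩ := mem_of_phi_eq_zero hπ (i := 1) (j := 0) (by decide) h
    rw [map_add, map_mul, map_mul]
    refine dvd_add (dvd_mul_right _ _) (Dvd.dvd.mul_right ?_ _)
    exact ⟨NodeAlg.e π, (te_eq (π := π)).symm⟩

lemma e_dvd_iff (z : NodeAlg B π) : NodeAlg.e π ∣ z ↔ psi hπ 0 z = 0 := by
  constructor
  · rintro ⟨w, rfl⟩; rw [map_mul, psi0_e, zero_mul]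
  · intro h
    obtain ⟨f, rfl⟩ := Ideal.Quotient.mk_surjective z
    obtain ⟨g, k, rfl⟩ := mem_of_phi_eq_zero hπ (i := 0) (j := 1) (by decide) h
    rw [map_add, map_mul, map_mul]
    refine dvd_add (dvd_mul_right _ _) (Dvd.dvd.mul_right ?_ _)
    exact ⟨NodeAlg.t π, ((mul_comm _ _).trans (te_eq (π := π))).symm⟩

lemma prime_t : Prime (NodeAlg.t π) := by
  refine ⟨fun h => ?_, fun h => ?_, fun a b h => ?_⟩
  · exact PowerSeries.X_ne_zero (psi0_t hπ ▸ (by rw [h, map_zero] : psi hπ 0 (NodeAlg.t π) = 0))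
  · have := h.map (psi hπ 1); rw [psi1_t] at this; exact not_isUnit_zero this
  · rw [t_dvd_iff hπ, map_mul, mul_eq_zero] at h
    exact h.imp (t_dvd_iff hπ a).2 (t_dvd_iff hπ b).2

lemma prime_e : Prime (NodeAlg.e π) := by
  refine ⟨fun h => ?_, fun h => ?_, fun a b h => ?_⟩
  · exact PowerSeries.X_ne_zero (psi1_e hπ ▸ (by rw [h, map_zero] : psi hπ 1 (NodeAlg.e π) = 0))
  · have := h.map (psi hπ 0); rw [psi0_e] at this; exact not_isUnit_zero this
  · rw [e_dvd_iff hπ, map_mul, mul_eq_zero] at h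
    exact h.imp (e_dvd_iff hπ a).2 (e_dvd_iff hπ b).2

lemma not_t_dvd_e : ¬ NodeAlg.t π ∣ NodeAlg.e π := by
  rw [t_dvd_iff hπ, psi1_e]; exact PowerSeries.X_ne_zero

lemma not_e_dvd_t : ¬ NodeAlg.e π ∣ NodeAlg.t π := by
  rw [e_dvd_iff hπ, psi0_t]; exact PowerSeries.X_ne_zero

omit hπ in
/-- the maximal ideal `(t, e)` -/
noncomputable abbrev mm (π : B) : Ideal (NodeAlg B π) := Ideal.span {NodeAlg.t π, NodeAlg.e π}

lemma mm_isMaximal : (mm π).IsMaximal := by
  have hker : mm π = RingHom.ker (PowerSeries.constantCoeff.comp (psi hπ 1)) := by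
    refine le_antisymm ?_ fun z hz => ?_
    · rw [Ideal.span_le]
      rintro z (rfl | rfl) <;> rw [SetLike.mem_coe, RingHom.mem_ker, RingHom.comp_apply]
      · rw [psi1_t, map_zero]
      · rw [psi1_e, PowerSeries.constantCoeff_X]
    · rw [RingHom.mem_ker, RingHom.comp_apply, ← PowerSeries.X_dvd_iff] at hz
      obtain ⟨q, hq⟩ := hz
      obtain ⟨f, rfl⟩ := phi_surjective (B := B) 1 q
      obtain ⟨w, hw⟩ : NodeAlg.t π ∣ z - NodeAlg.e π * Ideal.Quotient.mk _ f := by
        rw [t_dvd_iff hπ, map_sub, map_mul, psi1_e, hq, sub_eq_zero]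
        rfl
      exact Ideal.mem_span_pair.2 ⟨w, Ideal.Quotient.mk _ f, by linear_combination -hw⟩
  rw [hker]
  refine RingHom.ker_isMaximal_of_surjective _ (fun c => ?_)
  obtain ⟨b, rfl⟩ := IsLocalRing.residue_surjective c
  exact ⟨Ideal.Quotient.mk _ (C b), by
    show PowerSeries.constantCoeff (phi 1 (C b)) = _
    rw [phi_C, PowerSeries.constantCoeff_C]⟩

lemma len_mm : len (mm π) = 1 := by
  haveI : IsSimpleModule (NodeAlg B π) (NodeAlg B π ⧸ mm π) :=
    isSimpleModule_iff_isCoatom.2 (mm_isMaximal hπ).out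
  exact Module.length_eq_one _ _

lemma nontrivial_node : Nontrivial (NodeAlg B π) := ⟨⟨_, 0, (prime_t hπ).1⟩⟩

lemma isLocalRing_node : IsLocalRing (NodeAlg B π) := by
  haveI := nontrivial_node hπ
  exact IsLocalRing.of_surjective' (Ideal.Quotient.mk _) Ideal.Quotient.mk_surjective

lemma mem_mm_iff (z : NodeAlg B π) : z ∈ mm π ↔ ¬ IsUnit z := by
  haveI := isLocalRing_node hπ
  rw [IsLocalRing.eq_maximalIdeal (mm_isMaximal hπ), IsLocalRing.mem_maximalIdeal, mem_nonunits_iff]

omit hπ in
lemma reg_aux [IsDomain B] (h0 : π ≠ 0) {i j : Fin 2}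
    (hij : (X i * X j : MvPowerSeries (Fin 2) B) = X 0 * X 1) :
    IsLeftRegular (Ideal.Quotient.mk _ (X i) : NodeAlg B π) := by
  intro a b hab
  rw [← sub_eq_zero]
  have h : (Ideal.Quotient.mk _ (X i) : NodeAlg B π) * (a - b) = 0 := by rw [mul_sub, sub_eq_zero]; exact hab
  obtain ⟨r, hr⟩ := Ideal.Quotient.mk_surjective (a - b)
  rw [← hr] at h ⊢
  rw [← map_mul, Ideal.Quotient.eq_zero_iff_mem, Ideal.mem_span_singleton'] at h
  obtain ⟨s, hs⟩ := h
  rw [← hij] at hs
  have hd : (X i : MvPowerSeries (Fin 2) B) ∣ s * C π := ⟨s * X j - r, by linear_combination -hs⟩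
  have hs0 : (X i : MvPowerSeries (Fin 2) B) ∣ s := X_dvd_iff.2 fun m hm => by
    have := X_dvd_iff.1 hd m hm
    rw [mul_comm, coeff_C_mul] at this
    exact (mul_eq_zero.1 this).resolve_left h0
  obtain ⟨s', rfl⟩ := hs0
  rw [Ideal.Quotient.eq_zero_iff_mem, Ideal.mem_span_singleton', ← hij]
  refine ⟨s', mul_left_cancel₀ (a := (X i : MvPowerSeries (Fin 2) B)) (fun e => ?_) (by linear_combination hs)⟩
  have := congrArg (coeff (Finsupp.single i 1)) e
  simp at this

lemma branches [IsDomain B] (h0 : π ≠ 0) : Branches (NodeAlg.t π) (NodeAlg.e π) where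
  primeT := prime_t hπ
  primeE := prime_e hπ
  regT := reg_aux h0 (i := 0) (j := 1) rfl
  regE := reg_aux h0 (i := 1) (j := 0) (mul_comm _ _)
  notTE := not_t_dvd_e hπ
  notET := not_e_dvd_t hπ
  len_one := len_mm hπ

lemma map_mem_mm (σ : NodeAlg B π ≃+* NodeAlg B π) {z : NodeAlg B π} (hz : z ∈ mm π) : σ z ∈ mm π := by
  rw [mem_mm_iff hπ] at hz ⊢
  rwa [MulEquiv.isUnit_map]

variable [IsNoetherianRing B]

/-- the fixed ideal is generated by the differences on `B`, `t`, `e` -/
lemma fixIdeal_le (σ : NodeAlg B π ≃+* NodeAlg B π) (J : Ideal (NodeAlg B π))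
    (hB : ∀ c : B, σ (algebraMap B (NodeAlg B π) c) - algebraMap B (NodeAlg B π) c ∈ J)
    (ht : σ (NodeAlg.t π) - NodeAlg.t π ∈ J) (he : σ (NodeAlg.e π) - NodeAlg.e π ∈ J) :
    fixIdeal σ ≤ J := by
  haveI := isLocalRing_node hπ
  rw [fixIdeal, Ideal.span_le]
  rintro _ ⟨r, rfl⟩
  have key : ∀ (n : ℕ) (r : NodeAlg B π), σ r - r ∈ J ⊔ mm π ^ n := by
    intro n
    induction n with
    | zero => intro r; exact Submodule.mem_sup_right (((pow_zero (mm π)).trans Ideal.one_eq_top).ge Submodule.mem_top)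
    | succ n ih =>
      intro r
      obtain ⟨f, rfl⟩ := Ideal.Quotient.mk_surjective r
      obtain ⟨c, g, h, rfl⟩ := exists_decomp f
      set G : NodeAlg B π := Ideal.Quotient.mk _ g
      set H : NodeAlg B π := Ideal.Quotient.mk _ h
      have e : (Ideal.Quotient.mk _ (C c + X 0 * g + X 1 * h) : NodeAlg B π)
          = algebraMap B (NodeAlg B π) c + NodeAlg.t π * G + NodeAlg.e π * H := by
        rw [map_add, map_add, map_mul, map_mul]; rfl
      rw [e, map_add, map_add, map_mul, map_mul,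
        show σ (algebraMap B _ c) + σ (NodeAlg.t π) * σ G + σ (NodeAlg.e π) * σ H
            - (algebraMap B _ c + NodeAlg.t π * G + NodeAlg.e π * H)
          = (σ (algebraMap B _ c) - algebraMap B _ c) + G * (σ (NodeAlg.t π) - NodeAlg.t π)
            + H * (σ (NodeAlg.e π) - NodeAlg.e π)
            + σ (NodeAlg.t π) * (σ G - G) + σ (NodeAlg.e π) * (σ H - H) by ring]
      have step : ∀ (x y : NodeAlg B π), x ∈ mm π → y ∈ J ⊔ mm π ^ n → x * y ∈ J ⊔ mm π ^ (n + 1) := by
        intro x y hx hy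
        obtain ⟨a, ha, b, hb, rfl⟩ := Submodule.mem_sup.1 hy
        rw [mul_add, show mm π ^ (n + 1) = mm π ^ n * mm π from Submodule.pow_succ _]
        exact Submodule.add_mem_sup (J.mul_mem_left x ha) (Ideal.mul_mem_mul_rev hb hx)
      refine add_mem (add_mem (Submodule.mem_sup_left ?_) ?_) ?_
      · exact add_mem (add_mem (hB c) (J.mul_mem_left _ ht)) (J.mul_mem_left _ he)
      · exact step _ _ (map_mem_mm hπ σ (Ideal.subset_span (by simp))) (ih _)
      · exact step _ _ (map_mem_mm hπ σ (Ideal.subset_span (by simp))) (ih _)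
  have hinf := Ideal.iInf_pow_smul_eq_bot_of_le_jacobson (M := NodeAlg B π ⧸ J) (mm π)
    (by rw [IsLocalRing.eq_maximalIdeal (mm_isMaximal hπ)]; exact IsLocalRing.maximalIdeal_le_jacobson ⊥)
  rw [SetLike.mem_coe, ← Submodule.Quotient.mk_eq_zero J, ← Submodule.mem_bot (NodeAlg B π), ← hinf, Submodule.mem_iInf]
  intro n
  obtain ⟨a, ha, b, hb, hab⟩ := Submodule.mem_sup.1 (key n r)
  dsimp only
  rw [← hab, Submodule.Quotient.mk_add, (Submodule.Quotient.mk_eq_zero J).2 ha, zero_add,
    show (Submodule.Quotient.mk b : NodeAlg B π ⧸ J) = b • Submodule.Quotient.mk 1 by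
      rw [← Submodule.Quotient.mk_smul, smul_eq_mul, mul_one]]
  exact Submodule.smul_mem_smul hb Submodule.mem_top

omit hπ [IsLocalRing B] [IsNoetherianRing B] in
lemma sub_mem_fixIdeal {A : Type*} [Ring A] (σ : A → A) (r : A) : σ r - r ∈ fixIdeal σ :=
  Ideal.subset_span ⟨r, rfl⟩

end Groth.Agent.H7.Node
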