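import Mathlib

/-! Lengths of quotients by ideals generated by products of two transversal primes. -/

namespace Groth.Agent.H7.Node

universe u

variable {N : Type u} [CommRing N]

/-- length of `N ⧸ I` -/
noncomputable abbrev len (I : Ideal N) : ℕ∞ := Module.length N (N ⧸ I)

/-- `0 → N/(I:x) → N/I → N/(I+x) → 0` -/
lemma len_colon (I Q : Ideal N) (x : N) (hQ : ∀ r, r ∈ Q ↔ x * r ∈ I) :
    len I = len Q + len (I ⊔ Ideal.span {x}) := by
  let f : (N ⧸ Q) →ₗ[N] N ⧸ I :=
    Submodule.mapQ Q I (LinearMap.mul N N x) (fun r hr => (hQ r).1 hr)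
  let g : (N ⧸ I) →ₗ[N] N ⧸ (I ⊔ Ideal.span {x}) := Submodule.factor le_sup_left
  refine Module.length_eq_add_of_exact f g ?_ (Submodule.factor_surjective _) ?_
  · rw [injective_iff_map_eq_zero]
    intro z hz
    obtain ⟨r, rfl⟩ := Submodule.Quotient.mk_surjective _ z
    simp only [f, Submodule.mapQ_apply, LinearMap.mul_apply', Submodule.Quotient.mk_eq_zero] at hz
    rw [Submodule.Quotient.mk_eq_zero]
    exact (hQ r).2 hz
  · rw [LinearMap.exact_iff]
    ext z
    obtain ⟨r, rfl⟩ := Submodule.Quotient.mk_surjective _ z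
    rw [LinearMap.mem_ker, LinearMap.mem_range,
      show g (Submodule.Quotient.mk r) = Submodule.Quotient.mk r from rfl, Submodule.Quotient.mk_eq_zero]
    constructor
    · intro h
      obtain ⟨i, hi, y, hy, rfl⟩ := Submodule.mem_sup.1 h
      obtain ⟨c, rfl⟩ := Ideal.mem_span_singleton'.1 hy
      refine ⟨Submodule.Quotient.mk c, ?_⟩
      simp only [f, Submodule.mapQ_apply, LinearMap.mul_apply']
      rw [Submodule.Quotient.eq, show x * c - (i + c * x) = -i by ring]
      exact neg_mem hi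
    · rintro ⟨y, hy⟩
      obtain ⟨c, rfl⟩ := Submodule.Quotient.mk_surjective _ y
      simp only [f, Submodule.mapQ_apply, LinearMap.mul_apply', Submodule.Quotient.eq] at hy
      rw [show r = x * c - (x * c - r) by ring]
      exact sub_mem (Submodule.mem_sup_right (Ideal.mul_mem_right _ _ (Ideal.mem_span_singleton_self x)))
        (Submodule.mem_sup_left hy)

/-- cancellable modulo `(c)` -/
def NzdMod (c x : N) : Prop := ∀ r, c ∣ x * r → c ∣ r

lemma NzdMod.mul {c x y : N} (hx : NzdMod c x) (hy : NzdMod c y) : NzdMod c (x * y) :=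
  fun r h => hy r (hx (y * r) (by rwa [← mul_assoc]))

lemma NzdMod.pow {c x : N} (hx : NzdMod c x) : ∀ n : ℕ, NzdMod c (x ^ n)
  | 0 => fun r h => by simpa using h
  | n + 1 => by rw [pow_succ]; exact (hx.pow n).mul hx

lemma nzdMod_of_prime {c x : N} (hx : Prime x) (hc : ¬ x ∣ c) (hreg : IsLeftRegular x) : NzdMod c x := by
  rintro r ⟨d, hd⟩
  rcases hx.dvd_or_dvd (⟨r, hd.symm⟩ : x ∣ c * d) with h | ⟨e, rfl⟩
  · exact absurd h hc
  · exact ⟨e, hreg (by show x * r = x * (c * e); rw [hd]; ring)⟩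

/-- `len (c, x y) = len (c, x) + len (c, y)` -/
lemma len_pair_mul (c x y : N) (hx : NzdMod c x) :
    len (Ideal.span {c, x * y}) = len (Ideal.span {c, x}) + len (Ideal.span {c, y}) := by
  rw [len_colon (Ideal.span {c, x * y}) (Ideal.span {c, y}) x (fun r => ?_), add_comm]
  · congr 1
    congr 1
    refine le_antisymm (sup_le ?_ ?_) ?_
    · rw [Ideal.span_le]
      rintro z (rfl | rfl)
      · exact Ideal.subset_span (by simp)
      · exact Ideal.mul_mem_right _ _ (Ideal.subset_span (by simp))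
    · exact Ideal.span_mono (by simp)
    · rw [Ideal.span_le]
      rintro z (rfl | rfl)
      · exact Submodule.mem_sup_left (Ideal.subset_span (by simp))
      · exact Submodule.mem_sup_right (Ideal.mem_span_singleton_self _)
  · simp only [Ideal.mem_span_pair]
    constructor
    · rintro ⟨a, b, rfl⟩; exact ⟨x * a, b, by ring⟩
    · rintro ⟨a, b, hab⟩
      obtain ⟨d, hd⟩ := hx (r - b * y) ⟨a, by linear_combination -hab⟩
      exact ⟨d, b, by linear_combination -hd⟩

lemma len_top : len (⊤ : Ideal N) = 0 := Module.length_eq_zero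

lemma len_pair_pow (c x : N) (hx : NzdMod c x) : ∀ n : ℕ,
    len (Ideal.span {c, x ^ n}) = (n : ℕ∞) * len (Ideal.span {c, x})
  | 0 => by
    rw [pow_zero, Nat.cast_zero, zero_mul]
    rw [show Ideal.span {c, (1 : N)} = ⊤ from Ideal.eq_top_of_isUnit_mem _ (Ideal.subset_span (by simp)) isUnit_one]
    exact len_top
  | n + 1 => by
    rw [pow_succ', len_pair_mul c x (x ^ n) hx, len_pair_pow c x hx n, Nat.cast_succ, add_mul, one_mul, add_comm]

/-- the abstract two-branch situation -/
structure Branches (t e : N) : Prop where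
  primeT : Prime t
  primeE : Prime e
  regT : IsLeftRegular t
  regE : IsLeftRegular e
  notTE : ¬ t ∣ e
  notET : ¬ e ∣ t
  len_one : len (Ideal.span {t, e}) = 1

namespace Branches

variable {t e : N} (H : Branches t e)
include H

lemma len_swap : len (Ideal.span {e, t}) = 1 := by
  rw [Ideal.span_pair_comm]; exact H.len_one

lemma isUnit_of_dvd {m n : ℕ} {g : N} (hg : g ∣ t ^ m * e ^ n) (h1 : ¬ t ∣ g) (h2 : ¬ e ∣ g) : IsUnit g := by
  induction m with
  | zero =>
    rw [pow_zero, one_mul] at hg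
    induction n with
    | zero => rw [pow_zero] at hg; exact isUnit_of_dvd_one hg
    | succ n ih =>
      obtain ⟨d, hd⟩ := hg
      rcases H.primeE.dvd_or_dvd (⟨e ^ n, by rw [← pow_succ', hd]⟩ : e ∣ g * d) with h | ⟨d', rfl⟩
      · exact absurd h h2
      · exact ih ⟨d', H.regE (by show e * e ^ n = e * (g * d'); rw [← pow_succ', hd]; ring)⟩
  | succ m ih =>
    obtain ⟨d, hd⟩ := hg
    rcases H.primeT.dvd_or_dvd (⟨t ^ m * e ^ n, by rw [← mul_assoc, ← pow_succ', hd]⟩ : t ∣ g * d) with h | ⟨d', rfl⟩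
    · exact absurd h h1
    · exact ih ⟨d', H.regT (by show t * (t ^ m * e ^ n) = t * (g * d'); rw [← mul_assoc, ← pow_succ', hd]; ring)⟩

/-- the master formula -/
lemma master (m n : ℕ) (a b w g : N) (hw : IsUnit w) (hrel : a + w * b = g * (t ^ m * e ^ n))
    (ha : ¬ e ∣ a) (hb : ¬ t ∣ b) :
    len (Ideal.span {t ^ (m + 1) * e ^ (n + 1), a * t, b * e})
      = (m + 1 : ℕ) * len (Ideal.span {t, b}) + (n + 1 : ℕ) * len (Ideal.span {e, a}) + 1 := by
  set I := Ideal.span {t ^ (m + 1) * e ^ (n + 1), a * t, b * e} with hI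
  have hnat : ¬ e ∣ a * t := fun h => (H.primeE.dvd_or_dvd h).elim ha H.notET
  have hcol : ∀ r, r ∈ Ideal.span {b, t ^ (m + 1) * e ^ n} ↔ e * r ∈ I := by
    intro r
    rw [Ideal.mem_span_pair]
    constructor
    · rintro ⟨x, y, rfl⟩
      rw [show e * (x * b + y * (t ^ (m + 1) * e ^ n)) = x * (b * e) + y * (t ^ (m + 1) * e ^ (n + 1)) by ring]
      exact add_mem (I.mul_mem_left _ (Ideal.subset_span (by simp))) (I.mul_mem_left _ (Ideal.subset_span (by simp)))
    · intro hr
      obtain ⟨x, z, hz, hr⟩ := Ideal.mem_span_insert.1 hr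
      obtain ⟨y, y', rfl⟩ := Ideal.mem_span_pair.1 hz
      obtain ⟨q, rfl⟩ : e ∣ y := (H.primeE.dvd_or_dvd (⟨r - x * (t ^ (m + 1) * e ^ n) - y' * b, by linear_combination -hr⟩ : e ∣ y * (a * t))).resolve_right hnat
      refine ⟨y' - q * w * t, x + q * g, H.regE ?_⟩
      show e * ((y' - q * w * t) * b + (x + q * g) * (t ^ (m + 1) * e ^ n)) = e * r
      linear_combination -hr - (q * e * t) * hrel
  rw [len_colon I _ e hcol]
  have e1 : I ⊔ Ideal.span {e} = Ideal.span {e, t * a} := by
    refine le_antisymm (sup_le ?_ (Ideal.span_mono (by simp))) ?_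
    · rw [Ideal.span_le]
      rintro z (rfl | rfl | rfl)
      · exact Ideal.mem_span_pair.2 ⟨t ^ (m + 1) * e ^ n, 0, by ring⟩
      · exact Ideal.subset_span (by simp [mul_comm])
      · exact Ideal.mem_span_pair.2 ⟨b, 0, by ring⟩
    · rw [Ideal.span_le]
      rintro z (rfl | rfl)
      · exact Submodule.mem_sup_right (Ideal.mem_span_singleton_self _)
      · exact Submodule.mem_sup_left (Ideal.subset_span (by simp [mul_comm]))
  rw [e1, len_pair_mul e t a (nzdMod_of_prime H.primeT H.notTE H.regT), H.len_swap,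
    len_pair_mul b (t ^ (m + 1)) (e ^ n) ((nzdMod_of_prime H.primeT hb H.regT).pow _),
    len_pair_pow b t (nzdMod_of_prime H.primeT hb H.regT), Ideal.span_pair_comm (x := b) (y := t)]
  rcases Nat.eq_zero_or_pos n with rfl | hn
  · rw [pow_zero, show Ideal.span {b, (1 : N)} = ⊤ from Ideal.eq_top_of_isUnit_mem _ (Ideal.subset_span (by simp)) isUnit_one,
      len_top]
    push_cast
    ring
  · obtain ⟨c, hc⟩ : e ∣ a + w * b := by
      rw [hrel]; exact ((dvd_pow_self e hn.ne').trans (dvd_mul_left _ _)).trans (dvd_mul_left _ g)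
    have hbe : ¬ e ∣ b := fun h => ha (by
      rw [show a = (a + w * b) - w * b by ring]
      exact dvd_sub ⟨c, hc⟩ (h.mul_left w))
    rw [len_pair_pow b e (nzdMod_of_prime H.primeE hbe H.regE)]
    have e2 : Ideal.span {b, e} = Ideal.span {e, a} := by
      obtain ⟨u, rfl⟩ := hw
      refine le_antisymm ?_ ?_ <;> rw [Ideal.span_le]
      · rintro z (rfl | rfl)
        · rw [SetLike.mem_coe, Ideal.mem_span_pair]
          exact ⟨(↑u⁻¹ : N) * c, -(↑u⁻¹ : N), by linear_combination -(↑u⁻¹ : N) * hc + z * u.inv_mul⟩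
        · exact Ideal.subset_span (by simp)
      · rintro z (rfl | rfl)
        · exact Ideal.subset_span (by simp)
        · exact Ideal.mem_span_pair.2 ⟨-(u : N), c, by linear_combination -hc⟩
    rw [e2]
    push_cast
    ring

end Branches

end Groth.Agent.H7.Node
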