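import Groth.Agent.H7.Node.Core
import Groth.Prelude.Def_W4c2arithlefschetzNode
import Mathlib

/-! The smooth point `B[[t]]`: prime `π`, fixed ideal, length on the closed fibre. -/

set_option backward.isDefEq.respectTransparency false
set_option linter.unusedSectionVars false

namespace Groth.Agent.H7.Node.Smooth

open ArLef

universe u

variable {B : Type u} [CommRing B] [IsDomain B] [IsDiscreteValuationRing B] {π : B}

local notation "P" => PowerSeries B
local notation "am" => algebraMap B (PowerSeries B)
local notation "red" => PowerSeries.map (IsLocalRing.residue B)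

variable (hπ : Irreducible π)
include hπ

lemma red_pi : red (am π) = 0 := by
  rw [PowerSeries.algebraMap_apply, Algebra.algebraMap_self, RingHom.id_apply, PowerSeries.map_C,
    (IsLocalRing.residue_eq_zero_iff π).2 (hπ.maximalIdeal_eq ▸ Ideal.mem_span_singleton_self π), map_zero]

lemma dvd_iff (f : P) : am π ∣ f ↔ red f = 0 := by
  constructor
  · rintro ⟨g, rfl⟩; rw [map_mul, red_pi hπ, zero_mul]
  · intro h
    have key : ∀ n, π ∣ PowerSeries.coeff n f := fun n => by
      have := congrArg (PowerSeries.coeff n) h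
      rwa [PowerSeries.coeff_map, map_zero, IsLocalRing.residue_eq_zero_iff, hπ.maximalIdeal_eq,
        Ideal.mem_span_singleton] at this
    choose g hg using key
    refine ⟨PowerSeries.mk g, ?_⟩
    ext n
    rw [PowerSeries.algebraMap_apply, Algebra.algebraMap_self, RingHom.id_apply, PowerSeries.coeff_C_mul,
      PowerSeries.coeff_mk, hg n]

lemma prime_pi : Prime (am π) := by
  refine ⟨fun h => ?_, fun h => ?_, fun a b h => ?_⟩
  · have := congrArg (PowerSeries.coeff 0) h
    rw [PowerSeries.algebraMap_apply, Algebra.algebraMap_self, RingHom.id_apply, PowerSeries.coeff_zero_C, map_zero] at this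
    exact hπ.ne_zero this
  · have := h.map red; rw [red_pi hπ] at this; exact not_isUnit_zero this
  · rw [dvd_iff hπ, map_mul, mul_eq_zero] at h
    exact h.imp (dvd_iff hπ a).2 (dvd_iff hπ b).2

lemma regPi : IsLeftRegular (am π) := fun a b h => mul_left_cancel₀ (prime_pi hπ).1 h

/-- `(π, X)` -/
lemma mem_iff (z : P) : z ∈ Ideal.span {am π, PowerSeries.X} ↔ ¬ IsUnit z := by
  rw [PowerSeries.isUnit_iff_constantCoeff, ← mem_nonunits_iff, ← IsLocalRing.mem_maximalIdeal, hπ.maximalIdeal_eq,
    Ideal.mem_span_singleton, Ideal.mem_span_pair]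
  constructor
  · rintro ⟨x, y, rfl⟩
    rw [PowerSeries.algebraMap_apply, Algebra.algebraMap_self, RingHom.id_apply, map_add, map_mul, map_mul,
      PowerSeries.constantCoeff_C, PowerSeries.constantCoeff_X, mul_zero, add_zero]
    exact dvd_mul_left π _
  · rintro ⟨c, hc⟩
    obtain ⟨y, hy⟩ : PowerSeries.X ∣ z - PowerSeries.C (PowerSeries.constantCoeff z) := by
      rw [PowerSeries.X_dvd_iff, map_sub, PowerSeries.constantCoeff_C, sub_self]
    rw [hc, map_mul] at hy
    exact ⟨PowerSeries.C c, y, by rw [PowerSeries.algebraMap_apply, Algebra.algebraMap_self, RingHom.id_apply]; linear_combination -hy⟩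

lemma fixIdeal_eq (σ : P ≃+* P) (j : ℕ) (γ : B) (hγ : IsUnit γ)
    (hσB : ∀ b : B, σ (am b) - am b ∈ Ideal.span ({am (π ^ j)} : Set P))
    (hσπ : σ (am π) = am (π + γ * π ^ j)) :
    fixIdeal σ = Ideal.span {σ PowerSeries.X - PowerSeries.X, am π ^ j} := by
  set J := Ideal.span {σ PowerSeries.X - PowerSeries.X, am π ^ j} with hJ
  refine le_antisymm ?_ ?_
  · rw [fixIdeal, Ideal.span_le]
    rintro _ ⟨r, rfl⟩
    set m := Ideal.span {am π, PowerSeries.X} with hm
    have hB : ∀ c : B, σ (am c) - am c ∈ J := fun c => by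
      obtain ⟨x, hx⟩ := Ideal.mem_span_singleton'.1 (hσB c)
      rw [← hx, map_pow]; exact Ideal.mul_mem_left _ _ (Ideal.subset_span (by simp))
    have hX : σ PowerSeries.X ∈ m := by
      rw [mem_iff hπ, MulEquiv.isUnit_map, ← mem_iff hπ]; exact Ideal.subset_span (by simp)
    have key : ∀ (n : ℕ) (r : P), σ r - r ∈ J ⊔ m ^ n := by
      intro n
      induction n with
      | zero => intro r; rw [Submodule.pow_zero, Ideal.one_eq_top, sup_top_eq]; trivial
      | succ n ih =>
        intro r
        obtain ⟨g, hg⟩ : PowerSeries.X ∣ r - am (PowerSeries.constantCoeff r) := by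
          rw [PowerSeries.X_dvd_iff, map_sub, PowerSeries.algebraMap_apply, Algebra.algebraMap_self,
            RingHom.id_apply, PowerSeries.constantCoeff_C, sub_self]
        obtain ⟨c, rfl⟩ : ∃ c, r = am c + PowerSeries.X * g := ⟨_, by rw [← hg]; ring⟩
        rw [map_add, map_mul, show σ (am c) + σ PowerSeries.X * σ g - (am c + PowerSeries.X * g)
          = ((σ (am c) - am c) + g * (σ PowerSeries.X - PowerSeries.X)) + σ PowerSeries.X * (σ g - g) by ring]
        refine add_mem (Submodule.mem_sup_left (add_mem (hB c) (J.mul_mem_left _ (Ideal.subset_span (by simp))))) ?_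
        obtain ⟨a, ha, b, hb, hab⟩ := Submodule.mem_sup.1 (ih g)
        rw [← hab, mul_add, show m ^ (n + 1) = m ^ n * m from Submodule.pow_succ _]
        exact Submodule.add_mem_sup (J.mul_mem_left _ ha) (Ideal.mul_mem_mul_rev hb hX)
    have hjac : m ≤ (⊥ : Ideal P).jacobson := by
      refine le_trans (fun z hz => ?_) (IsLocalRing.maximalIdeal_le_jacobson ⊥)
      exact (IsLocalRing.mem_maximalIdeal z).2 ((mem_iff hπ z).1 hz)
    have hinf := Ideal.iInf_pow_smul_eq_bot_of_le_jacobson (M := P ⧸ J) m hjac
    rw [SetLike.mem_coe, ← Submodule.Quotient.mk_eq_zero J, ← Submodule.mem_bot P, ← hinf, Submodule.mem_iInf]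
    intro n
    obtain ⟨a, ha, b, hb, hab⟩ := Submodule.mem_sup.1 (key n r)
    dsimp only
    rw [← hab, Submodule.Quotient.mk_add, (Submodule.Quotient.mk_eq_zero J).2 ha, zero_add,
      show (Submodule.Quotient.mk b : P ⧸ J) = b • Submodule.Quotient.mk 1 by
        rw [← Submodule.Quotient.mk_smul, smul_eq_mul, mul_one]]
    exact Submodule.smul_mem_smul hb Submodule.mem_top
  · rw [hJ, Ideal.span_le]
    rintro z (rfl | rfl)
    · exact Ideal.subset_span ⟨PowerSeries.X, rfl⟩
    · rw [SetLike.mem_coe, ← Ideal.unit_mul_mem_iff_mem _ (hγ.map (algebraMap B P)), ← map_pow, ← map_mul,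
        show am (γ * π ^ j) = σ (am π) - am π by rw [hσπ, map_add, add_sub_cancel_left]]
      exact Ideal.subset_span ⟨am π, rfl⟩

/-- `len (f, π^i)` on `B[[t]]` -/
lemma len_pow {f : P} (hf : ¬ am π ∣ f) (i : ℕ) :
    len (Ideal.span {f, am π ^ i}) =
      (i : ℕ∞) * Module.length (PowerSeries (IsLocalRing.ResidueField B))
        (PowerSeries (IsLocalRing.ResidueField B) ⧸ Ideal.span {red f}) := by
  rw [len_pair_pow f (am π) (nzdMod_of_prime (prime_pi hπ) hf (regPi hπ))]
  congr 1
  letI : Algebra P (PowerSeries (IsLocalRing.ResidueField B)) := (red).toAlgebra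
  have hs : Function.Surjective (algebraMap P (PowerSeries (IsLocalRing.ResidueField B))) :=
    PowerSeries.map_surjective _ IsLocalRing.residue_surjective
  rw [← Module.length_eq_of_surjective (S := P) hs]
  let L : P →ₗ[P] PowerSeries (IsLocalRing.ResidueField B) ⧸ Ideal.span {red f} :=
    ((Submodule.mkQ (Ideal.span {red f})).restrictScalars P) ∘ₗ (Algebra.linearMap P (PowerSeries (IsLocalRing.ResidueField B)))
  have hL : Function.Surjective L := (Submodule.Quotient.mk_surjective _).comp hs
  have hker : LinearMap.ker L = Ideal.span {f, am π} := by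
    ext z
    show (Submodule.Quotient.mk (red z) : PowerSeries (IsLocalRing.ResidueField B) ⧸ Ideal.span {red f}) = 0 ↔ _
    rw [Submodule.Quotient.mk_eq_zero, Ideal.mem_span_singleton', Ideal.mem_span_pair]
    constructor
    · rintro ⟨c, hc⟩
      obtain ⟨c, rfl⟩ := hs c
      obtain ⟨d, hd⟩ := (dvd_iff hπ (z - c * f)).2 (by rw [map_sub, map_mul]; exact sub_eq_zero.2 hc.symm)
      exact ⟨c, d, by linear_combination -hd⟩
    · rintro ⟨x, y, rfl⟩
      exact ⟨red x, by rw [map_add, map_mul, map_mul, red_pi hπ, mul_zero, add_zero]⟩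
  show Module.length P (P ⧸ Ideal.span {f, am π}) = _
  rw [← hker]
  exact (L.quotKerEquivOfSurjective hL).length_eq

end Groth.Agent.H7.Node.Smooth
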